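import Cfsg.Agent.CosetCert.HeCentIndex49980.Main
import Cfsg.Agent.CosetCert.HeChain1.Main
import Cfsg.Agent.CosetCert.HeChain2.Main
import Cfsg.Agent.CosetCert.HeChain3.Main
import Cfsg.Agent.CosetCert.HeCollapse.Main
import Cfsg.Agent.CosetCert.HeOrder.Level0
import Cfsg.Agent.CosetCert.HeOrder.Level1
import Cfsg.Agent.CosetCert.HeOrder.Level2
import Cfsg.Agent.CosetCert.HeOrder.Level3
import Cfsg.Agent.CosetCert.Simple

/-! Generated: order and simplicity of the presented group He. -/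

namespace Cfsg.Agent.CosetCert.HeOrder

theorem rels_ok : ∀ l ∈ coxWords Cfsg.Agent.CosetCert.HeSp44.genList Cfsg.Spor.He.edges Cfsg.Spor.He.extra,
    PresentedGroup.mk (Cfsg.Spor.coxRelators Cfsg.Spor.He.edges ∪ {r | r ∈ Cfsg.Spor.He.extra}) (FreeGroup.mk l) = 1 :=
  Cfsg.Agent.CosetCert.HeSp44.spells.rels_one

theorem kernel_word : PresentedGroup.mk (Cfsg.Spor.coxRelators Cfsg.Spor.He.edges ∪ {r | r ∈ Cfsg.Spor.He.extra})
    (FreeGroup.mk [(Cfsg.Spor.He.Gen.c, true), (Cfsg.Spor.He.Gen.d, true), (Cfsg.Spor.He.Gen.c, true), (Cfsg.Spor.He.Gen.d, true), (Cfsg.Spor.He.Gen.e, true), (Cfsg.Spor.He.Gen.d, true), (Cfsg.Spor.He.Gen.c, true), (Cfsg.Spor.He.Gen.d, true), (Cfsg.Spor.He.Gen.c, true), (Cfsg.Spor.He.Gen.d, true), (Cfsg.Spor.He.Gen.e, true), (Cfsg.Spor.He.Gen.d, true), (Cfsg.Spor.He.Gen.c, true), (Cfsg.Spor.He.Gen.d, true), (Cfsg.Spor.He.Gen.e, true)]) = 1 := by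
  obtain ⟨ψ, hψ⟩ := exists_rename (rels := (Cfsg.Spor.coxRelators Cfsg.Spor.He.edges ∪ {r | r ∈ Cfsg.Spor.He.extra})) Cfsg.Agent.CosetCert.HeChain3.relWords Cfsg.Agent.CosetCert.HeChain3.ren fun l hl =>
    rels_ok _ (by
      have h : (Cfsg.Agent.CosetCert.HeChain3.relWords.all fun l => decide (l.map (fun a => (Cfsg.Agent.CosetCert.HeChain3.ren a.1, a.2)) ∈
          coxWords Cfsg.Agent.CosetCert.HeSp44.genList Cfsg.Spor.He.edges Cfsg.Spor.He.extra)) = true := by decide +kernel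
      exact of_decide_eq_true (List.all_eq_true.1 h l hl))
  obtain ⟨φ, π, hπ, hfwd⟩ := Data.enumeration Cfsg.Agent.CosetCert.HeChain3.valid Cfsg.Agent.CosetCert.HeChain3.spells
  let l : List (Fin 5 × Bool) := [(2, true), (3, true), (2, true), (3, true), (4, true), (3, true), (2, true), (3, true), (2, true), (3, true), (4, true), (3, true), (2, true), (3, true), (4, true)]
  have h0 : (φ (PresentedGroup.mk _ (FreeGroup.mk l)))⁻¹ ⟨0, Cfsg.Agent.CosetCert.HeChain3.valid.n_pos⟩ =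
      (⟨0, Cfsg.Agent.CosetCert.HeChain3.valid.n_pos⟩ : Fin Cfsg.Agent.CosetCert.HeChain3.data.n) := by
    apply Fin.ext
    rw [hfwd]
    show Cfsg.Agent.CosetCert.HeChain3.data.fwd _ 0 = 0
    decide +kernel
  have h1 := congrArg π (Equiv.Perm.inv_eq_iff_eq.1 h0)
  rw [hπ] at h1
  have hone : PresentedGroup.mk (wordRels Cfsg.Agent.CosetCert.HeChain3.relWords) (FreeGroup.mk l) = 1 := by
    obtain ⟨x, hx⟩ := QuotientGroup.mk_surjective (π ⟨0, Cfsg.Agent.CosetCert.HeChain3.valid.n_pos⟩)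
    rw [← hx] at h1
    have h2 := QuotientGroup.eq.1 h1.symm
    rw [show Data.sub (wordRels Cfsg.Agent.CosetCert.HeChain3.relWords) (Cfsg.Agent.CosetCert.HeChain3.subLetters.map FreeGroup.of) = ⊥ by
      simp [Data.sub, Cfsg.Agent.CosetCert.HeChain3.subLetters], Subgroup.mem_bot] at h2
    have h3 : (PresentedGroup.mk (wordRels Cfsg.Agent.CosetCert.HeChain3.relWords) (FreeGroup.mk l) * x)⁻¹ * x = 1 := h2
    rw [inv_mul_eq_one] at h3
    exact mul_eq_right.1 h3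
  have h4 := hψ (FreeGroup.mk l)
  rw [hone, map_one, FreeGroup.map.mk] at h4
  exact h4.symm

theorem card_bound : Finite Cfsg.Spor.He ∧ Nat.card Cfsg.Spor.He ≤ 4030387200 := by
  have h3 := letterSub_nil_card (Cfsg.Spor.coxRelators Cfsg.Spor.He.edges ∪ {r | r ∈ Cfsg.Spor.He.extra})
  have h2 := letterSub_card_le Cfsg.Agent.CosetCert.HeChain2.ren (List.finRange 4) Cfsg.Agent.CosetCert.HeChain2.subLetters
    [] rfl List.mem_finRange
    (fun l hl => by
      have h : (Cfsg.Agent.CosetCert.HeChain2.relWords.all fun l => decide (l.map (fun a => (Cfsg.Agent.CosetCert.HeChain2.ren a.1, a.2)) ∈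
          [(Cfsg.Spor.He.Gen.c, true), (Cfsg.Spor.He.Gen.d, true), (Cfsg.Spor.He.Gen.c, true), (Cfsg.Spor.He.Gen.d, true), (Cfsg.Spor.He.Gen.e, true), (Cfsg.Spor.He.Gen.d, true), (Cfsg.Spor.He.Gen.c, true), (Cfsg.Spor.He.Gen.d, true), (Cfsg.Spor.He.Gen.c, true), (Cfsg.Spor.He.Gen.d, true), (Cfsg.Spor.He.Gen.e, true), (Cfsg.Spor.He.Gen.d, true), (Cfsg.Spor.He.Gen.c, true), (Cfsg.Spor.He.Gen.d, true), (Cfsg.Spor.He.Gen.e, true)] :: coxWords Cfsg.Agent.CosetCert.HeSp44.genList Cfsg.Spor.He.edges Cfsg.Spor.He.extra)) = true := by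
        decide +kernel
      rcases List.mem_cons.1 (of_decide_eq_true (List.all_eq_true.1 h l hl)) with h | h
      · rw [h]; exact kernel_word
      · exact rels_ok _ h)
    Cfsg.Agent.CosetCert.HeChain2.index_bound h3
  have h1 := letterSub_card_le Cfsg.Agent.CosetCert.HeChain1.ren (List.finRange 6) Cfsg.Agent.CosetCert.HeChain1.subLetters
    [Cfsg.Spor.He.Gen.a, Cfsg.Spor.He.Gen.c, Cfsg.Spor.He.Gen.d, Cfsg.Spor.He.Gen.e] rfl List.mem_finRange
    (fun l hl => by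
      have h : (Cfsg.Agent.CosetCert.HeChain1.relWords.all fun l => decide (l.map (fun a => (Cfsg.Agent.CosetCert.HeChain1.ren a.1, a.2)) ∈
          [(Cfsg.Spor.He.Gen.c, true), (Cfsg.Spor.He.Gen.d, true), (Cfsg.Spor.He.Gen.c, true), (Cfsg.Spor.He.Gen.d, true), (Cfsg.Spor.He.Gen.e, true), (Cfsg.Spor.He.Gen.d, true), (Cfsg.Spor.He.Gen.c, true), (Cfsg.Spor.He.Gen.d, true), (Cfsg.Spor.He.Gen.c, true), (Cfsg.Spor.He.Gen.d, true), (Cfsg.Spor.He.Gen.e, true), (Cfsg.Spor.He.Gen.d, true), (Cfsg.Spor.He.Gen.c, true), (Cfsg.Spor.He.Gen.d, true), (Cfsg.Spor.He.Gen.e, true)] :: coxWords Cfsg.Agent.CosetCert.HeSp44.genList Cfsg.Spor.He.edges Cfsg.Spor.He.extra)) = true := by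
        decide +kernel
      rcases List.mem_cons.1 (of_decide_eq_true (List.all_eq_true.1 h l hl)) with h | h
      · rw [h]; exact kernel_word
      · exact rels_ok _ h)
    Cfsg.Agent.CosetCert.HeChain1.index_bound h2
  obtain ⟨hf, hc⟩ := card_le_top [Cfsg.Spor.He.Gen.a, Cfsg.Spor.He.Gen.c, Cfsg.Spor.He.Gen.d, Cfsg.Spor.He.Gen.e, Cfsg.Spor.He.Gen.f, Cfsg.Spor.He.Gen.g] rfl Cfsg.Agent.CosetCert.HeCentIndex49980.index_bound h1
  exact ⟨hf, hc.trans (by decide +kernel)⟩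

theorem close_normal : ∀ M : Subgroup Cfsg.Spor.He, M.Normal →
    PresentedGroup.mk (Cfsg.Spor.coxRelators Cfsg.Spor.He.edges ∪ {r | r ∈ Cfsg.Spor.He.extra}) (FreeGroup.mk [(Cfsg.Spor.He.Gen.g, true), (Cfsg.Spor.He.Gen.f, true), (Cfsg.Spor.He.Gen.d, true)]) ∈ M → M = ⊤ := by
  intro M hM hz
  have hcheck : (Cfsg.Agent.CosetCert.HeCollapse.relWords.all fun l => decide
      ((l.map fun a => (Cfsg.Agent.CosetCert.HeCollapse.ren a.1, a.2)) ∈
        [(Cfsg.Spor.He.Gen.g, true), (Cfsg.Spor.He.Gen.f, true), (Cfsg.Spor.He.Gen.d, true)] :: coxWords Cfsg.Agent.CosetCert.HeSp44.genList Cfsg.Spor.He.edges Cfsg.Spor.He.extra)) = true := by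
    decide +kernel
  refine Data.normal_eq_top_of_mem Cfsg.Agent.CosetCert.HeCollapse.log_valid Cfsg.Agent.CosetCert.HeCollapse.spells rfl rfl Cfsg.Agent.CosetCert.HeCollapse.ren
    (fun z => ?_) _ (fun l hl => ?_) M hM hz
  · cases z <;> decide +kernel
  · rcases List.mem_cons.1 (of_decide_eq_true (List.all_eq_true.1 hcheck l hl)) with h | h
    · exact Or.inr h
    · exact Or.inl (rels_ok _ h)

noncomputable def suborbitList : List Data.Orb :=
  [⟨Cfsg.Agent.CosetCert.HeSp44.orbSet0, 46, get48 Cfsg.Agent.CosetCert.HeSp44.orbStore0⟩, ⟨Cfsg.Agent.CosetCert.HeSp44.orbSet1, 65, get48 Cfsg.Agent.CosetCert.HeSp44.orbStore1⟩, ⟨Cfsg.Agent.CosetCert.HeSp44.orbSet2, 2, get48 Cfsg.Agent.CosetCert.HeSp44.orbStore2⟩, ⟨Cfsg.Agent.CosetCert.HeSp44.orbSet3, 1, get48 Cfsg.Agent.CosetCert.HeSp44.orbStore3⟩]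

theorem suborbits : Data.Suborbits Cfsg.Agent.CosetCert.HeSp44.data suborbitList where
  ok := by
    simp only [suborbitList, List.forall_mem_cons, List.not_mem_nil, false_imp_iff, implies_true,
      and_true]
    exact ⟨⟨Cfsg.Agent.CosetCert.HeSp44.orb0_root, Cfsg.Agent.CosetCert.HeSp44.orb0_ok⟩, ⟨Cfsg.Agent.CosetCert.HeSp44.orb1_root, Cfsg.Agent.CosetCert.HeSp44.orb1_ok⟩, ⟨Cfsg.Agent.CosetCert.HeSp44.orb2_root, Cfsg.Agent.CosetCert.HeSp44.orb2_ok⟩, ⟨Cfsg.Agent.CosetCert.HeSp44.orb3_root, Cfsg.Agent.CosetCert.HeSp44.orb3_ok⟩⟩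
  cover := by
    intro c hc
    have h : allFrom (fun c => Nat.beq c 0 || suborbitList.any fun o => o.set.testBit c) 0 2058 = true := by
      decide +kernel
    rcases Bool.or_eq_true_iff.1 ((allFrom_iff _ _ _).1 h c (Nat.zero_le _) (by rw [Nat.zero_add]; exact hc)) with h | h
    · exact Or.inl (Nat.eq_of_beq_eq_true h)
    · exact Or.inr (List.any_eq_true.1 h)
  arith := by
    have h : ((Data.unions suborbitList).all fun u => decide
        (Data.count u 2058 ∣ 2058 → Data.count u 2058 = 1 ∨ Data.count u 2058 = 2058)) = true := by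
      decide +kernel
    exact fun u hu => of_decide_eq_true (List.all_eq_true.1 h u hu)

noncomputable def levels : List Data.Level := [level0, level1, level2, level3]

theorem levels_ok : Cfsg.Agent.CosetCert.HeSp44.data.LevelsOK [] levels :=
  ⟨⟨by decide +kernel, gens0_ok, pts0_ok⟩, ⟨by decide +kernel, gens1_ok, pts1_ok⟩, ⟨by decide +kernel, gens2_ok, pts2_ok⟩, ⟨by decide +kernel, gens3_ok, pts3_ok⟩, trivial⟩

/-- The word whose normal closure is everything. -/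
def closeWord : List (Cfsg.Spor.He.Gen × Bool) := [(.g, true), (.f, true), (.d, true)]

theorem order_and_simple : IsSimpleGroup Cfsg.Spor.He ∧ Nat.card Cfsg.Spor.He = 4030387200 :=
  Data.isSimpleGroup_of_cert Cfsg.Agent.CosetCert.HeSp44.valid Cfsg.Agent.CosetCert.HeSp44.spells (N := 4030387200) card_bound.1 card_bound.2
    levels levels_ok (by decide +kernel) suborbitList suborbits 7 3 (by norm_num)
    (by decide +kernel) (by decide +kernel) (by decide +kernel) closeWord 7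
    (by decide +kernel)
    (fun c hc => Nat.eq_of_beq_eq_true ((allFrom_iff
      (fun c => Nat.beq (Cfsg.Agent.CosetCert.HeSp44.data.fwd (((List.replicate 7 closeWord).flatten).map
        (Data.code Cfsg.Agent.CosetCert.HeSp44.data.iv Cfsg.Agent.CosetCert.HeSp44.enc)) c) c) 0 2058).1 (by decide +kernel) c (Nat.zero_le _)
      (by rw [Nat.zero_add]; exact hc)))
    close_normal

end Cfsg.Agent.CosetCert.HeOrder
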